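import Mathlib
import Cfsg.Prelude.Def_LieExceptional

/-!
# Conjugation on Sylow subgroups as a Zassenhaus action

If `G` is simple, there are `|P| + 1` Sylow `r`-subgroups and they intersect trivially, then a Sylow
subgroup is regular on the other points.  This gives double transitivity.  Together with a check
on fixed points this gives a Zassenhaus group.
-/

set_option autoImplicit false

namespace Cfsg.Agent.Lib.SmallCen.SylowZass

open MulAction

universe u

variable {G : Type u} [Group G] [Finite G] {r : ℕ} [hr : Fact r.Prime]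

theorem smul_self_of_mem (Q : Sylow r G) {v : G} (hv : v ∈ (Q : Subgroup G)) : v • Q = Q := by
  rw [Sylow.smul_eq_iff_mem_normalizer]
  exact Subgroup.le_normalizer hv

theorem mem_of_smul_eq {Q R : Sylow r G} {v : G} (hv : v ∈ (Q : Subgroup G)) (h : v • R = R) :
    v ∈ (R : Subgroup G) := by
  rw [Sylow.smul_eq_iff_mem_normalizer] at h
  have h1 : v ∈ (Q : Subgroup G) ⊓ Subgroup.normalizer (R : Set G) := ⟨hv, h⟩
  rw [Q.2.inf_normalizer_sylow R] at h1
  exact h1.2

section Regular

variable (hcard : ∀ Q : Sylow r G, Nat.card (Sylow r G) = Nat.card (Q : Subgroup G) + 1)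
  (hTI : ∀ Q R : Sylow r G, Q ≠ R → ∀ v, v ∈ (Q : Subgroup G) → v ∈ (R : Subgroup G) → v = 1)

include hcard hTI

theorem regular (Q R R' : Sylow r G) (hR : R ≠ Q) (hR' : R' ≠ Q) :
    ∃! v : (Q : Subgroup G), (v : G) • R = R' := by
  classical
  have hne : ∀ v : (Q : Subgroup G), (v : G) • R ≠ Q := by
    intro v h
    apply hR
    have h1 : (v : G) • R = (v : G) • Q := by rw [h, smul_self_of_mem Q v.2]
    exact MulAction.injective (v : G) h1
  let f : ↥(Q : Subgroup G) → {x : Sylow r G // x ≠ Q} := fun v => ⟨(v : G) • R, hne v⟩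
  have hinj : Function.Injective f := by
    intro v w h
    have h1 : (v : G) • R = (w : G) • R := congrArg Subtype.val h
    have h2 : ((w : G)⁻¹ * v) • R = R := by
      rw [mul_smul, h1, inv_smul_smul]
    have h3 : (w : G)⁻¹ * v ∈ (Q : Subgroup G) := Q.1.mul_mem (Q.1.inv_mem w.2) v.2
    have h4 := hTI Q R hR.symm _ h3 (mem_of_smul_eq h3 h2)
    apply Subtype.ext
    exact (inv_mul_eq_one.1 h4).symm
  have hc : Nat.card (Q : Subgroup G) = Nat.card {x : Sylow r G // x ≠ Q} := by
    haveI : Fintype (Sylow r G) := Fintype.ofFinite _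
    rw [Nat.card_eq_fintype_card (α := {x : Sylow r G // x ≠ Q}), Fintype.card_subtype_compl,
      Fintype.card_subtype_eq, ← Nat.card_eq_fintype_card, hcard Q]
    simp
  have hbij := (Nat.bijective_iff_injective_and_card f).2 ⟨hinj, hc⟩
  obtain ⟨v, hv⟩ := hbij.2 ⟨R', hR'⟩
  refine ⟨v, congrArg Subtype.val hv, fun w hw => ?_⟩
  apply hinj
  rw [hv]
  exact Subtype.ext hw

theorem two_trans : MulAction.IsMultiplyPretransitive G (Sylow r G) 2 := by
  rw [is_two_pretransitive_iff]
  intro a b c d hab hcd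
  obtain ⟨g, hg⟩ := MulAction.exists_smul_eq G a c
  have hb : g • b ≠ c := by
    intro h
    apply hab
    have : g • a = g • b := by rw [hg, h]
    exact MulAction.injective g this
  obtain ⟨v, hv, -⟩ := regular hcard hTI c (g • b) d hb (Ne.symm hcd)
  refine ⟨(v : G) * g, ?_, ?_⟩
  · rw [mul_smul, hg, smul_self_of_mem c v.2]
  · rw [mul_smul, hv]

/-- `g` fixing three points commutes with some nontrivial element of the first. -/
theorem exists_comm {g : G} {P Q R : Sylow r G} (hQ : Q ≠ P) (hR : R ≠ P) (hQR : Q ≠ R)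
    (gP : g • P = P) (gQ : g • Q = Q) (gR : g • R = R) :
    ∃ v ∈ (P : Subgroup G), v ≠ 1 ∧ g * v = v * g := by
  obtain ⟨v, hv, hu⟩ := regular hcard hTI P Q R hQ hR
  have hgN : g ∈ Subgroup.normalizer (P : Set G) := by
    rw [← Sylow.smul_eq_iff_mem_normalizer]; exact gP
  have hw : g * v * g⁻¹ ∈ (P : Subgroup G) := (Subgroup.mem_normalizer_iff.1 hgN v).1 v.2
  have hwQ : (g * v * g⁻¹) • Q = R := by
    have hgi : g⁻¹ • Q = Q := by
      rw [inv_smul_eq_iff, gQ]
    rw [mul_smul, mul_smul, hgi, hv, gR]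
  have h1 := hu ⟨g * v * g⁻¹, hw⟩ hwQ
  refine ⟨v, v.2, ?_, ?_⟩
  · intro h
    rw [h, one_smul] at hv
    exact hQR hv
  · have h2 : g * v * g⁻¹ = v := congrArg Subtype.val h1
    calc g * v = (g * v * g⁻¹) * g := by group
      _ = v * g := by rw [h2]

/-- An element fixing `P`, `Q` and centralizing `P` acts trivially. -/
theorem acts_trivially_of_comm {g : G} {P Q : Sylow r G} (hQ : Q ≠ P)
    (gP : g • P = P) (gQ : g • Q = Q) (hc : ∀ v ∈ (P : Subgroup G), g * v = v * g) (R : Sylow r G) :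
    g • R = R := by
  by_cases hR : R = P
  · rw [hR, gP]
  · obtain ⟨v, hv, -⟩ := regular hcard hTI P Q R hQ hR
    rw [← hv, ← mul_smul, hc v v.2, mul_smul, gQ]

end Regular

section Simple

variable [IsSimpleGroup G]

theorem faithful {a b : Sylow r G} (hab : a ≠ b) : FaithfulSMul G (Sylow r G) := by
  have hker : (MulAction.toPermHom G (Sylow r G)).ker = ⊥ := by
    rcases (inferInstance : (MulAction.toPermHom G (Sylow r G)).ker.Normal).eq_bot_or_eq_top with h | h
    · exact h
    · exfalso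
      obtain ⟨g, hg⟩ := MulAction.exists_smul_eq G a b
      have h1 : g ∈ (MulAction.toPermHom G (Sylow r G)).ker := by rw [h]; trivial
      have h2 : (MulAction.toPermHom G (Sylow r G)) g = 1 := h1
      have h3 : g • a = a := by
        have := congrArg (fun σ : Equiv.Perm (Sylow r G) => σ a) h2
        simpa using this
      exact hab (h3.symm.trans hg)
  refine ⟨fun {m₁ m₂} h => ?_⟩
  have h1 : m₂⁻¹ * m₁ ∈ (MulAction.toPermHom G (Sylow r G)).ker := by
    rw [MonoidHom.mem_ker]
    ext x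
    simp [mul_smul, h]
  rw [hker, Subgroup.mem_bot] at h1
  exact (inv_mul_eq_one.1 h1).symm

/-- The conclusion: a Zassenhaus action. -/
theorem isZassenhaus
    (hcard : ∀ Q : Sylow r G, Nat.card (Sylow r G) = Nat.card (Q : Subgroup G) + 1)
    (hTI : ∀ Q R : Sylow r G, Q ≠ R → ∀ v, v ∈ (Q : Subgroup G) → v ∈ (R : Subgroup G) → v = 1)
    (hthree : ∀ g : G, ∀ a b c : Sylow r G, a ≠ b → b ≠ c → a ≠ c → g • a = a → g • b = b → g • c = c → g = 1)
    (htwo : ∃ g : G, g ≠ 1 ∧ ∃ a b : Sylow r G, a ≠ b ∧ g • a = a ∧ g • b = b) :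
    Cfsg.IsZassenhausGroup G (Sylow r G) := by
  obtain ⟨g₀, hg₀, a₀, b₀, hab₀, ga₀, gb₀⟩ := htwo
  refine ⟨faithful hab₀, two_trans hcard hTI, hthree, ⟨g₀, hg₀, a₀, b₀, hab₀, ga₀, gb₀⟩, ?_⟩
  intro N hN htr
  rcases hN.eq_bot_or_eq_top with rfl | rfl
  · exfalso
    obtain ⟨n, hn⟩ := htr.exists_smul_eq a₀ b₀
    have h1 : (n : G) = 1 := Subgroup.mem_bot.1 n.2
    have h2 : (n : G) • a₀ = b₀ := hn
    rw [h1, one_smul] at h2
    exact hab₀ h2
  · refine ⟨a₀, fun h => ?_⟩
    have h1 : (⟨g₀, trivial⟩ : (⊤ : Subgroup G)) ∈ MulAction.stabilizer (⊤ : Subgroup G) a₀ := ga₀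
    rw [h, Subgroup.mem_bot] at h1
    exact hg₀ (congrArg Subtype.val h1)

end Simple

/-- The elements of prime order case: no nonidentity element fixes three points. -/
theorem three_of_prime
    (hcard : ∀ Q : Sylow r G, Nat.card (Sylow r G) = Nat.card (Q : Subgroup G) + 1)
    (hTI : ∀ Q R : Sylow r G, Q ≠ R → ∀ v, v ∈ (Q : Subgroup G) → v ∈ (R : Subgroup G) → v = 1)
    (hp : ∀ Q : Sylow r G, Nat.card (Q : Subgroup G) = r) [FaithfulSMul G (Sylow r G)]
    (g : G) (a b c : Sylow r G) (hab : a ≠ b) (hbc : b ≠ c) (hac : a ≠ c)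
    (ga : g • a = a) (gb : g • b = b) (gc : g • c = c) : g = 1 := by
  obtain ⟨v, hv, hv1, hcomm⟩ := exists_comm hcard hTI hab.symm hac.symm hbc ga gb gc
  have hgen : ∀ w ∈ (a : Subgroup G), g * w = w * g := by
    intro w hw
    haveI : Fact (Nat.card (a : Subgroup G)).Prime := ⟨by rw [hp a]; exact hr.out⟩
    have hz : Subgroup.zpowers (⟨v, hv⟩ : (a : Subgroup G)) = ⊤ := by
      apply Subgroup.eq_top_of_card_eq
      rw [Nat.card_zpowers]
      have h1 : orderOf (⟨v, hv⟩ : (a : Subgroup G)) ∣ Nat.card (a : Subgroup G) := orderOf_dvd_natCard _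
      rw [hp a] at h1 ⊢
      rcases (Nat.dvd_prime hr.out).1 h1 with h2 | h2
      · exfalso
        rw [orderOf_eq_one_iff] at h2
        exact hv1 (congrArg Subtype.val h2)
      · exact h2
    have hw2 : (⟨w, hw⟩ : (a : Subgroup G)) ∈ Subgroup.zpowers (⟨v, hv⟩ : (a : Subgroup G)) := by
      rw [hz]; trivial
    obtain ⟨k, hk⟩ := hw2
    have hk2 : v ^ k = w := congrArg Subtype.val hk
    rw [← hk2]
    exact ((Commute.zpow_right (show Commute g v from hcomm) k)).eq
  apply FaithfulSMul.eq_of_smul_eq_smul (α := Sylow r G)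
  intro R
  rw [one_smul]
  exact acts_trivially_of_comm hcard hTI hab.symm ga gb hgen R

/-- Existence of a nontrivial two-point stabilizer from counting. -/
theorem two_of_card (hcard : ∀ Q : Sylow r G, Nat.card (Sylow r G) = Nat.card (Q : Subgroup G) + 1)
    (P Q : Sylow r G) (hPQ : P ≠ Q)
    (hlt : Nat.card (P : Subgroup G) < Nat.card (Subgroup.normalizer (P : Set G))) :
    ∃ g : G, g ≠ 1 ∧ ∃ a b : Sylow r G, a ≠ b ∧ g • a = a ∧ g • b = b := by
  classical
  have hne : ∀ n : Subgroup.normalizer (P : Set G), (n : G) • Q ≠ P := by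
    intro n h
    apply hPQ
    have h1 : (n : G) • P = P := Sylow.smul_eq_iff_mem_normalizer.2 n.2
    have h2 : (n : G) • P = (n : G) • Q := by rw [h1, h]
    exact MulAction.injective (n : G) h2
  let f : Subgroup.normalizer (P : Set G) → {x : Sylow r G // x ≠ P} :=
    fun n => ⟨(n : G) • Q, hne n⟩
  have hnotinj : ¬ Function.Injective f := by
    intro hinj
    have h1 := Nat.card_le_card_of_injective f hinj
    have hc : Nat.card {x : Sylow r G // x ≠ P} = Nat.card (P : Subgroup G) := by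
      haveI : Fintype (Sylow r G) := Fintype.ofFinite _
      rw [Nat.card_eq_fintype_card (α := {x : Sylow r G // x ≠ P}), Fintype.card_subtype_compl,
        Fintype.card_subtype_eq, ← Nat.card_eq_fintype_card, hcard P]
      simp
    omega
  rw [Function.Injective] at hnotinj
  push Not at hnotinj
  obtain ⟨n, m, hnm, hne2⟩ := hnotinj
  have h1 : (n : G) • Q = (m : G) • Q := congrArg Subtype.val hnm
  refine ⟨(m : G)⁻¹ * n, ?_, P, Q, hPQ, ?_, ?_⟩
  · intro h
    apply hne2
    apply Subtype.ext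
    exact (inv_mul_eq_one.1 h).symm
  · have : ((m : G)⁻¹ * n) ∈ Subgroup.normalizer (P : Set G) :=
      Subgroup.mul_mem _ (Subgroup.inv_mem _ m.2) n.2
    exact Sylow.smul_eq_iff_mem_normalizer.2 this
  · rw [mul_smul, h1, inv_smul_smul]

end Cfsg.Agent.Lib.SmallCen.SylowZass
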