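import Mathlib
import Cfsg.Agent.Lib.SmallCen.SylowZass
import Cfsg.Agent.Lib.SmallCen.SmallOrder

/-!
# Simple groups of order 360: the conjugation action on the Sylow 3-subgroups is a Zassenhaus action
-/

set_option autoImplicit false

namespace Cfsg.Agent.Lib.SmallCen.Order360

open MulAction Cfsg.Agent.Lib.SmallCen.SylowZass Cfsg.Agent.Lib.SmallCen.SmallOrder

universe u

theorem sign_of_sq_one {α : Type*} [Fintype α] [DecidableEq α] (σ : Equiv.Perm α) (hσ : σ ^ 2 = 1) :
    Equiv.Perm.sign σ = (-1) ^ (σ.support.card / 2) := by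
  have hall : ∀ d ∈ σ.cycleType, d = 2 := by
    intro d hd
    have h1 : d ∣ orderOf σ := Equiv.Perm.dvd_of_mem_cycleType hd
    have h2 : orderOf σ ∣ 2 := orderOf_dvd_of_pow_eq_one hσ
    have h3 := Equiv.Perm.two_le_of_mem_cycleType hd
    have h4 := Nat.le_of_dvd (by norm_num) (h1.trans h2)
    omega
  have hrep := Multiset.eq_replicate_card.mpr hall
  have hsum := Equiv.Perm.sum_cycleType σ
  rw [Equiv.Perm.sign_of_cycleType]
  rw [hrep, Multiset.sum_replicate, smul_eq_mul] at hsum
  generalize hk : Multiset.card σ.cycleType = k at hsum hrep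
  rw [hrep]
  simp only [Multiset.sum_replicate, smul_eq_mul, Multiset.card_replicate]
  rw [← hsum]
  have h5 : k * 2 / 2 = k := by omega
  rw [h5]
  have h6 : k * 2 + k = 2 * k + k := by ring
  rw [h6, pow_add, pow_mul]
  simp

theorem hom_units_trivial {G : Type*} [Group G] [Finite G] [IsSimpleGroup G] (h : 2 < Nat.card G)
    (φ : G →* ℤˣ) (g : G) : φ g = 1 := by
  rcases (inferInstance : φ.ker.Normal).eq_bot_or_eq_top with h1 | h1
  · exfalso
    have hinj : Function.Injective φ := (MonoidHom.ker_eq_bot_iff φ).1 h1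
    have h2 := Nat.card_le_card_of_injective φ hinj
    have h3 : Nat.card ℤˣ = 2 := by
      rw [Nat.card_eq_fintype_card]; rfl
    omega
  · have : g ∈ φ.ker := by rw [h1]; trivial
    exact this

theorem abelian_le_normalizer {G : Type*} [Group G] (A D : Subgroup G)
    (hcomm : ∀ a ∈ A, ∀ b ∈ A, a * b = b * a) (hD : D ≤ A) : A ≤ Subgroup.normalizer (D : Set G) := by
  intro w hw
  rw [Subgroup.mem_normalizer_iff]
  intro x
  constructor
  · intro hx
    have h1 : w * x * w⁻¹ = x := by
      rw [hcomm w hw x (hD hx)]; group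
    rwa [h1]
  · intro hx
    have h2 : w * x * w⁻¹ ∈ A := hD hx
    have h3 : x ∈ A := by
      have h4 : x = w⁻¹ * (w * x * w⁻¹) * w := by group
      rw [h4]
      exact A.mul_mem (A.mul_mem (A.inv_mem hw) h2) hw
    have h1 : w * x * w⁻¹ = x := by
      rw [hcomm w hw x h3]; group
    rwa [h1] at hx

theorem mem_smul_iff {G : Type*} [Group G] {r : ℕ} {g x : G} {P : Sylow r G} :
    x ∈ ((g • P : Sylow r G) : Subgroup G) ↔ g⁻¹ * x * g ∈ (P : Subgroup G) := by
  rw [Sylow.coe_subgroup_smul, Subgroup.mem_pointwise_smul_iff_inv_smul_mem]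
  simp [MulAut.smul_def, MulAut.conj_apply]

variable {G : Type u} [Group G] [Finite G] (h : Nat.card G = 360)

instance fact3 : Fact (Nat.Prime 3) := ⟨by norm_num⟩

include h in
theorem card_three (Q : Sylow 3 G) : Nat.card (Q : Subgroup G) = 9 := by
  simpa using card_sylow_eq (a := 2) (m := 40) (by rw [h]; norm_num) (by norm_num) Q

include h in
theorem comm_three (Q : Sylow 3 G) : ∀ a ∈ (Q : Subgroup G), ∀ b ∈ (Q : Subgroup G), a * b = b * a := by
  intro a ha b hb
  have := IsPGroup.commutative_of_card_eq_prime_sq (p := 3) (G := (Q : Subgroup G))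
    (by rw [card_three h Q]; norm_num) ⟨a, ha⟩ ⟨b, hb⟩
  exact congrArg Subtype.val this

variable [IsSimpleGroup G]

include h in
theorem index_gt (H : Subgroup G) (hH : H ≠ ⊤) : 5 < H.index :=
  lt_index (by rw [h]; decide) H hH

include h in
theorem num_sylow : Nat.card (Sylow 3 G) = 10 := by
  obtain ⟨P⟩ : Nonempty (Sylow 3 G) := inferInstance
  have hidx : (P : Subgroup G).index = 40 := by
    have := Subgroup.card_mul_index (P : Subgroup G)
    rw [card_three h P, h] at this
    omega
  have hmod := card_sylow_modEq_one 3 G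
  have hdvd := P.card_dvd_index
  rw [hidx] at hdvd
  have hntop := normalizer_ne_top P (by rw [card_three h P]; norm_num) (by rw [card_three h P, h]; norm_num)
  have hnidx := P.card_eq_index_normalizer
  have hgt := index_gt h _ hntop
  rw [← hnidx] at hgt
  have hcases : Nat.card (Sylow 3 G) = 10 ∨ Nat.card (Sylow 3 G) = 40 := by
    have hle := Nat.le_of_dvd (by norm_num) hdvd
    generalize Nat.card (Sylow 3 G) = n at hmod hdvd hle hgt ⊢
    unfold Nat.ModEq at hmod
    interval_cases n <;> first | omega | (exfalso; revert hdvd; norm_num)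
  rcases hcases with h1 | h1
  · exact h1
  · exfalso
    have hNcard : Nat.card (Subgroup.normalizer (P : Set G)) = 9 := by
      have := Subgroup.card_mul_index (Subgroup.normalizer (P : Set G))
      rw [← hnidx, h1, h] at this
      omega
    have hNeq : (P : Subgroup G) = Subgroup.normalizer (P : Set G) := by
      have hle : (P : Subgroup G) ≤ Subgroup.normalizer (P : Set G) := Subgroup.le_normalizer
      apply Subgroup.eq_of_le_of_card_ge hle
      rw [hNcard, card_three h P]
    have hPc : Subgroup.normalizer (P : Set G) ≤ Subgroup.centralizer (P : Set G) := by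
      intro w hw
      rw [Subgroup.mem_centralizer_iff]
      intro x hx
      have hw' : w ∈ (P : Subgroup G) := by
        rw [hNeq]; exact hw
      exact comm_three h P x hx w hw'
    have hcomp := MonoidHom.ker_transferSylow_isComplement' P hPc
    have hcc := hcomp.card_mul_card
    rw [card_three h P, h] at hcc
    have hk : Nat.card (MonoidHom.transferSylow P hPc).ker = 40 := by omega
    rcases (inferInstance : (MonoidHom.transferSylow P hPc).ker.Normal).eq_bot_or_eq_top with h2 | h2
    · rw [h2] at hk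
      simp at hk
    · rw [h2] at hk
      simp [h] at hk

include h in
theorem card_normalizer (Q : Sylow 3 G) : Nat.card (Subgroup.normalizer (Q : Set G)) = 36 := by
  have := Subgroup.card_mul_index (Subgroup.normalizer (Q : Set G))
  rw [← Q.card_eq_index_normalizer, num_sylow h, h] at this
  omega

include h in
theorem exists_T (Q : Sylow 3 G) : ∃ (T : Subgroup G) (Q' : Sylow 3 G), Nat.card T = 4 ∧ Q' ≠ Q ∧
    (∀ t ∈ T, t • Q = Q) ∧ (∀ t ∈ T, t • Q' = Q') := by
  classical
  haveI : Fact (Nat.Prime 2) := ⟨Nat.prime_two⟩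
  obtain ⟨K, hK⟩ := Sylow.exists_subgroup_card_pow_prime (G := Subgroup.normalizer (Q : Set G)) 2 (n := 2)
    (by rw [card_normalizer h Q]; norm_num)
  let T : Subgroup G := K.map (Subgroup.normalizer (Q : Set G)).subtype
  have hT : Nat.card T = 4 := by
    have : Nat.card T = Nat.card K :=
      Nat.card_congr (K.equivMapOfInjective _ (Subgroup.subtype_injective _)).toEquiv.symm
    rw [this, hK]; norm_num
  have hTQ : ∀ t ∈ T, t • Q = Q := by
    rintro t ⟨k, -, rfl⟩
    exact Sylow.smul_eq_iff_mem_normalizer.2 k.2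
  have hTp : IsPGroup 2 T := IsPGroup.of_card (n := 2) (by rw [hT]; norm_num)
  have hmod := hTp.card_modEq_card_fixedPoints (α := Sylow 3 G)
  rw [num_sylow h] at hmod
  by_contra hcon
  push Not at hcon
  have hfix : MulAction.fixedPoints T (Sylow 3 G) = {Q} := by
    ext R
    simp only [MulAction.mem_fixedPoints, Set.mem_singleton_iff]
    constructor
    · intro hR
      by_contra hne
      obtain ⟨t, ht, h3⟩ := hcon T R hT hne hTQ
      exact h3 (hR ⟨t, ht⟩)
    · rintro rfl t
      exact hTQ t t.2
  rw [hfix, Nat.card_coe_set_eq, Set.ncard_singleton] at hmod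
  revert hmod
  decide

include h in
theorem hcard (Q : Sylow 3 G) : Nat.card (Sylow 3 G) = Nat.card (Q : Subgroup G) + 1 := by
  rw [num_sylow h, card_three h Q]

/-- A local version of regularity. -/
theorem exists_smul_of_disjoint (hc : ∀ Q : Sylow 3 G, Nat.card (Sylow 3 G) = Nat.card (Q : Subgroup G) + 1)
    (Q R R' : Sylow 3 G) (hR : R ≠ Q) (hR' : R' ≠ Q)
    (hd : ∀ v, v ∈ (Q : Subgroup G) → v ∈ (R : Subgroup G) → v = 1) :
    ∃ v : (Q : Subgroup G), (v : G) • R = R' := by
  classical
  have hne : ∀ v : (Q : Subgroup G), (v : G) • R ≠ Q := by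
    intro v h
    apply hR
    have h1 : (v : G) • R = (v : G) • Q := by rw [h, smul_self_of_mem Q v.2]
    exact MulAction.injective (v : G) h1
  let f : ↥(Q : Subgroup G) → {x : Sylow 3 G // x ≠ Q} := fun v => ⟨(v : G) • R, hne v⟩
  have hinj : Function.Injective f := by
    intro v w h
    have h1 : (v : G) • R = (w : G) • R := congrArg Subtype.val h
    have h2 : ((w : G)⁻¹ * v) • R = R := by
      rw [mul_smul, h1, inv_smul_smul]
    have h3 : (w : G)⁻¹ * v ∈ (Q : Subgroup G) := Q.1.mul_mem (Q.1.inv_mem w.2) v.2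
    have h4 := hd _ h3 (mem_of_smul_eq h3 h2)
    apply Subtype.ext
    exact (inv_mul_eq_one.1 h4).symm
  have hc' : Nat.card (Q : Subgroup G) = Nat.card {x : Sylow 3 G // x ≠ Q} := by
    haveI : Fintype (Sylow 3 G) := Fintype.ofFinite _
    rw [Nat.card_eq_fintype_card (α := {x : Sylow 3 G // x ≠ Q}), Fintype.card_subtype_compl,
      Fintype.card_subtype_eq, ← Nat.card_eq_fintype_card, hc Q]
    simp
  have hbij := (Nat.bijective_iff_injective_and_card f).2 ⟨hinj, hc'⟩
  obtain ⟨v, hv⟩ := hbij.2 ⟨R', hR'⟩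
  exact ⟨v, congrArg Subtype.val hv⟩

include h in
/-- The Sylow 3-subgroups intersect trivially. -/
theorem ti (Q R : Sylow 3 G) (hne : Q ≠ R) (v : G) (h1 : v ∈ (Q : Subgroup G)) (h2 : v ∈ (R : Subgroup G)) :
    v = 1 := by
  by_contra hv
  obtain ⟨T, Q', hT, hQ', hTQ, hTQ'⟩ := exists_T h Q
  set D : Subgroup G := (Q : Subgroup G) ⊓ (Q' : Subgroup G) with hD
  have hDne : D ≠ ⊥ := by
    intro hbot
    have hdisj : ∀ w, w ∈ (Q : Subgroup G) → w ∈ (Q' : Subgroup G) → w = 1 := fun w h3 h4 => by
      have h5 : w ∈ D := ⟨h3, h4⟩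
      rw [hbot] at h5
      exact h5
    obtain ⟨w, hw⟩ := exists_smul_of_disjoint (hcard h) Q Q' R hQ' hne.symm hdisj
    have h3 : (w : G)⁻¹ * v * w ∈ (Q' : Subgroup G) := by
      rw [← hw] at h2
      exact mem_smul_iff.1 h2
    have h4 : (w : G)⁻¹ * v * w ∈ (Q : Subgroup G) :=
      Q.1.mul_mem (Q.1.mul_mem (Q.1.inv_mem w.2) h1) w.2
    have h5 := hdisj _ h4 h3
    apply hv
    have h6 : v = (w : G) * ((w : G)⁻¹ * v * w) * (w : G)⁻¹ := by group
    rw [h6, h5]; group
  have hQN : (Q : Subgroup G) ≤ Subgroup.normalizer (D : Set G) :=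
    abelian_le_normalizer _ _ (comm_three h Q) inf_le_left
  have hQ'N : (Q' : Subgroup G) ≤ Subgroup.normalizer (D : Set G) :=
    abelian_le_normalizer _ _ (comm_three h Q') inf_le_right
  have hTN : T ≤ Subgroup.normalizer (D : Set G) := by
    intro t ht
    rw [Subgroup.mem_normalizer_iff]
    intro x
    have h3 := Subgroup.mem_normalizer_iff.1 (Sylow.smul_eq_iff_mem_normalizer.1 (hTQ t ht))
    have h4 := Subgroup.mem_normalizer_iff.1 (Sylow.smul_eq_iff_mem_normalizer.1 (hTQ' t ht))
    constructor
    · rintro ⟨h5, h6⟩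
      exact ⟨(h3 x).1 h5, (h4 x).1 h6⟩
    · rintro ⟨h5, h6⟩
      exact ⟨(h3 x).2 h5, (h4 x).2 h6⟩
  have hTN2 : T ≤ Subgroup.normalizer (Q : Set G) := fun t ht =>
    Sylow.smul_eq_iff_mem_normalizer.1 (hTQ t ht)
  -- the normalizer of `Q` normalizes `D`
  have hle : Subgroup.normalizer (Q : Set G) ≤ Subgroup.normalizer (D : Set G) := by
    set M : Subgroup G := Subgroup.normalizer (D : Set G) ⊓ Subgroup.normalizer (Q : Set G) with hM
    have h9 : 9 ∣ Nat.card M := by
      rw [← card_three h Q]
      exact Subgroup.card_dvd_of_le (le_inf hQN Subgroup.le_normalizer)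
    have h4 : 4 ∣ Nat.card M := by
      rw [← hT]
      exact Subgroup.card_dvd_of_le (le_inf hTN hTN2)
    have h36 : 36 ∣ Nat.card M := by
      have : Nat.Coprime 9 4 := by norm_num
      exact this.mul_dvd_of_dvd_of_dvd h9 h4
    have hMeq : M = Subgroup.normalizer (Q : Set G) := by
      apply Subgroup.eq_of_le_of_card_ge inf_le_right
      rw [card_normalizer h Q]
      exact Nat.le_of_dvd Nat.card_pos h36
    rw [← hMeq]
    exact inf_le_left
  have hnot : ¬ (Subgroup.normalizer (D : Set G) ≤ Subgroup.normalizer (Q : Set G)) := by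
    intro h3
    apply hQ'
    apply Sylow.ext
    apply Subgroup.eq_of_le_of_card_ge
    · intro w hw
      have h4 : w • Q = Q := Sylow.smul_eq_iff_mem_normalizer.2 (h3 (hQ'N hw))
      exact mem_of_smul_eq hw h4
    · rw [card_three h Q, card_three h Q']
  have hri := Subgroup.relIndex_mul_index hle
  rw [← Q.card_eq_index_normalizer, num_sylow h] at hri
  have hri1 : (Subgroup.normalizer (Q : Set G)).relIndex (Subgroup.normalizer (D : Set G)) ≠ 1 := by
    intro h3
    exact hnot (Subgroup.relIndex_eq_one.1 h3)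
  have htop : Subgroup.normalizer (D : Set G) = ⊤ := by
    by_contra h3
    have h4 := index_gt h _ h3
    generalize (Subgroup.normalizer (Q : Set G)).relIndex (Subgroup.normalizer (D : Set G)) = i at hri hri1
    generalize (Subgroup.normalizer (D : Set G)).index = j at hri h4
    rcases i with _ | _ | i
    · omega
    · omega
    · nlinarith
  have hDnormal : D.Normal := Subgroup.normalizer_eq_top_iff.1 htop
  rcases hDnormal.eq_bot_or_eq_top with h3 | h3
  · exact hDne h3
  · have h4 : (Q : Subgroup G) = ⊤ := by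
      rw [eq_top_iff, ← h3]
      exact inf_le_left
    have h5 := card_three h Q
    rw [h4] at h5
    simp [h] at h5

include h in
/-- A nonidentity element fixes at most two Sylow 3-subgroups. -/
theorem three [hf : FaithfulSMul G (Sylow 3 G)] (g : G) (a b c : Sylow 3 G) (hab : a ≠ b) (hbc : b ≠ c)
    (hac : a ≠ c) (ga : g • a = a) (gb : g • b = b) (gc : g • c = c) : g = 1 := by
  classical
  by_contra hg
  have hc := hcard h (G := G)
  have hTI := ti h (G := G)
  -- `g ^ 4 = 1`
  have hle : (a : Subgroup G) ≤ Subgroup.normalizer ((a : Subgroup G) : Set G) := Subgroup.le_normalizer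
  have hri : (a : Subgroup G).relIndex (Subgroup.normalizer ((a : Subgroup G) : Set G)) = 4 := by
    have h1 := Subgroup.relIndex_mul_index hle
    have h2 : (a : Subgroup G).index = 40 := by
      have := Subgroup.card_mul_index (a : Subgroup G)
      rw [card_three h a, h] at this
      omega
    have h3 : (Subgroup.normalizer ((a : Subgroup G) : Set G)).index = 10 := by
      have h4 := a.card_eq_index_normalizer
      rw [num_sylow h] at h4
      exact h4.symm
    rw [h2, h3] at h1
    omega
  have hg4a : g ^ 4 ∈ (a : Subgroup G) := by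
    have hmem : g ∈ Subgroup.normalizer ((a : Subgroup G) : Set G) := Sylow.smul_eq_iff_mem_normalizer.1 ga
    haveI : ((a : Subgroup G).subgroupOf (Subgroup.normalizer ((a : Subgroup G) : Set G))).Normal :=
      Subgroup.normal_in_normalizer
    have h1 := Subgroup.pow_index_mem ((a : Subgroup G).subgroupOf (Subgroup.normalizer ((a : Subgroup G) : Set G)))
      ⟨g, hmem⟩
    have h2 : ((a : Subgroup G).subgroupOf (Subgroup.normalizer ((a : Subgroup G) : Set G))).index = 4 := hri
    rw [h2] at h1
    exact Subgroup.mem_subgroupOf.1 h1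
  have hg4b : (g ^ 4) • b = b := by
    have hmem : g ∈ Subgroup.normalizer (b : Set G) := Sylow.smul_eq_iff_mem_normalizer.1 gb
    exact Sylow.smul_eq_iff_mem_normalizer.2 (pow_mem hmem 4)
  have hg4 : g ^ 4 = 1 := hTI a b hab _ hg4a (mem_of_smul_eq hg4a hg4b)
  obtain ⟨z, hz1, hz2, za, zb, zc⟩ : ∃ z : G, z ≠ 1 ∧ z * z = 1 ∧ z • a = a ∧ z • b = b ∧ z • c = c := by
    by_cases h2 : g * g = 1
    · exact ⟨g, hg, h2, ga, gb, gc⟩
    · refine ⟨g * g, h2, ?_, ?_, ?_, ?_⟩
      · rw [← hg4, pow_succ, pow_succ, pow_succ, pow_one]; group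
      · rw [mul_smul, ga, ga]
      · rw [mul_smul, gb, gb]
      · rw [mul_smul, gc, gc]
  obtain ⟨v, hv, hv1, hzv⟩ := exists_comm hc hTI hab.symm hac.symm hbc za zb zc
  let K : Subgroup (a : Subgroup G) := (Subgroup.centralizer ({z} : Set G)).subgroupOf (a : Subgroup G)
  have hmemK : ∀ w : (a : Subgroup G), w ∈ K ↔ z * w = w * z := by
    intro w
    show (w : G) ∈ Subgroup.centralizer ({z} : Set G) ↔ _
    rw [Subgroup.mem_centralizer_singleton_iff]
    exact eq_comm
  have hvK : (⟨v, hv⟩ : (a : Subgroup G)) ∈ K := (hmemK _).2 hzv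
  have hdvd : Nat.card K ∣ 3 ^ 2 := by
    have := Subgroup.card_subgroup_dvd_card K
    rwa [card_three h a] at this
  obtain ⟨j, hj, hKj⟩ := (Nat.dvd_prime_pow Nat.prime_three).1 hdvd
  have hj3 : Nat.card K = 3 := by
    interval_cases j
    · exfalso
      have h1 : K = ⊥ := Subgroup.eq_bot_of_card_eq K (by simpa using hKj)
      rw [h1, Subgroup.mem_bot] at hvK
      exact hv1 (congrArg Subtype.val hvK)
    · simpa using hKj
    · exfalso
      have h1 : K = ⊤ := Subgroup.eq_top_of_card_eq K (by rw [hKj, card_three h a]; norm_num)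
      have h2 : ∀ w ∈ (a : Subgroup G), z * w = w * z := by
        intro w hw
        have : (⟨w, hw⟩ : (a : Subgroup G)) ∈ K := by rw [h1]; trivial
        exact (hmemK _).1 this
      apply hz1
      apply FaithfulSMul.eq_of_smul_eq_smul (α := Sylow 3 G)
      intro R
      rw [one_smul]
      exact acts_trivially_of_comm hc hTI hab.symm za zb h2 R
  -- the support has six points
  haveI : Fintype (Sylow 3 G) := Fintype.ofFinite _
  haveI : Fintype (a : Subgroup G) := Fintype.ofFinite _
  let σ : Equiv.Perm (Sylow 3 G) := MulAction.toPermHom G (Sylow 3 G) z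
  have hσ : ∀ R, σ R = z • R := fun R => rfl
  let f : ↥(a : Subgroup G) → Sylow 3 G := fun w => (w : G) • b
  have hfinj : Function.Injective f := by
    intro w w' hww
    have h1 : (w : G) • b = (w' : G) • b := hww
    have h2 : ((w' : G)⁻¹ * w) • b = b := by rw [mul_smul, h1, inv_smul_smul]
    have h3 : (w' : G)⁻¹ * w ∈ (a : Subgroup G) := a.1.mul_mem (a.1.inv_mem w'.2) w.2
    have h4 := hTI a b hab _ h3 (mem_of_smul_eq h3 h2)
    apply Subtype.ext
    exact (inv_mul_eq_one.1 h4).symm
  have hsupp : σ.support = (Finset.univ.filter fun w : (a : Subgroup G) => w ∉ K).image f := by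
    ext R
    simp only [Equiv.Perm.mem_support, hσ, Finset.mem_image, Finset.mem_filter, Finset.mem_univ, true_and]
    constructor
    · intro hR
      have hRa : R ≠ a := by
        rintro rfl
        exact hR za
      obtain ⟨w, hw, -⟩ := regular hc hTI a b R hab.symm hRa
      refine ⟨w, ?_, hw⟩
      intro hwK
      apply hR
      rw [← hw, ← mul_smul, (hmemK w).1 hwK, mul_smul, zb]
    · rintro ⟨w, hw, rfl⟩ hR
      apply hw
      rw [hmemK]
      have hu : z * w * z⁻¹ ∈ (a : Subgroup G) :=
        (Subgroup.mem_normalizer_iff.1 (Sylow.smul_eq_iff_mem_normalizer.1 za) (w : G)).1 w.2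
      have h1 : f ⟨z * w * z⁻¹, hu⟩ = f w := by
        show (z * w * z⁻¹) • b = (w : G) • b
        have hzi : z⁻¹ • b = b := by rw [inv_smul_eq_iff, zb]
        rw [mul_smul, mul_smul, hzi]
        exact hR
      have h2 := hfinj h1
      have h3 : z * w * z⁻¹ = w := congrArg Subtype.val h2
      calc z * w = (z * w * z⁻¹) * z := by group
        _ = w * z := by rw [h3]
  have hcard6 : σ.support.card = 6 := by
    rw [hsupp, Finset.card_image_of_injective _ hfinj]
    have h7 : (Finset.univ.filter fun w : (a : Subgroup G) => w ∈ K).card = 3 := by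
      rw [← Fintype.card_subtype, ← Nat.card_eq_fintype_card]
      exact hj3
    have h8 := Finset.card_filter_add_card_filter_not (s := (Finset.univ : Finset (a : Subgroup G))) (fun w => w ∈ K)
    rw [h7, Finset.card_univ, ← Nat.card_eq_fintype_card, card_three h a] at h8
    omega
  have hsq : σ ^ 2 = 1 := by
    show (MulAction.toPermHom G (Sylow 3 G) z) ^ 2 = 1
    rw [← map_pow, pow_two, hz2, map_one]
  have hs1 := sign_of_sq_one σ hsq
  rw [hcard6] at hs1
  have hs2 := hom_units_trivial (by rw [h]; norm_num) (Equiv.Perm.sign.comp (MulAction.toPermHom G (Sylow 3 G))) z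
  have hs3 : Equiv.Perm.sign σ = 1 := hs2
  rw [hs3] at hs1
  revert hs1
  decide

end Cfsg.Agent.Lib.SmallCen.Order360
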